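import Groth.Agent.Chevalley.Basic
import Groth.Agent.LocFlat.Basic
import Mathlib.RingTheory.Ideal.KrullsHeightTheorem
import Mathlib.RingTheory.KrullDimension.NonZeroDivisors
import Mathlib.RingTheory.Ideal.AssociatedPrime.Localization
import Mathlib.RingTheory.Ideal.AssociatedPrime.Finiteness
import Mathlib.RingTheory.Regular.IsSMulRegular
import Mathlib.RingTheory.Localization.AtPrime.Basic
import Mathlib.RingTheory.Flat.Localization
import Mathlib.RingTheory.Flat.Stability
import Mathlib.LinearAlgebra.TensorProduct.Quotient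
import Mathlib.RingTheory.Finiteness.Ideal

/-!
# Flat local algebras over complete local domains

For `A` a complete Noetherian local domain and `L` a flat Noetherian local `A`-algebra, every
associated prime `Q` of `L` with `Q + mL` primary has `dim L/Q = dim A`, and then `L / mL` has depth zero.
-/

set_option autoImplicit false
set_option linter.style.haveILetI false

universe u

open IsLocalRing TensorProduct

namespace Groth.Agent.FlatFibres

variable {A : Type u} [CommRing A]

/-- Colon ideals are preserved by flat algebras. -/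
theorem mem_map_colon {B : Type u} [CommRing B] [Algebra A B] [Module.Flat A B] (T : Ideal A) (y : A) (b : B)
    (h : algebraMap A B y * b ∈ T.map (algebraMap A B)) :
    b ∈ (T.colon {y}).map (algebraMap A B) := by
  let J : Ideal A := T.colon {y}
  let μ : (A ⧸ J) →ₗ[A] (A ⧸ T) := Submodule.liftQ J (Submodule.mkQ T ∘ₗ LinearMap.mulRight A y) fun a ha => by
    exact (Submodule.Quotient.mk_eq_zero T).mpr (Submodule.mem_colon_singleton.mp ha)
  have hμ : Function.Injective μ := by
    rw [← LinearMap.ker_eq_bot]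
    refine Submodule.ker_liftQ_eq_bot _ _ _ fun a ha => ?_
    exact Submodule.mem_colon_singleton.mpr ((Submodule.Quotient.mk_eq_zero T).mp ha)
  have hinj := Module.Flat.rTensor_preserves_injective_linearMap (M := B) μ hμ
  have h0 : μ.rTensor B ((Ideal.Quotient.mk J 1) ⊗ₜ[A] b) = 0 := by
    apply (quotTensorEquivQuotSMul B T).injective
    rw [map_zero, LinearMap.rTensor_tmul]
    have : μ (Ideal.Quotient.mk J 1) = Ideal.Quotient.mk T y := by
      show Submodule.Quotient.mk (1 * y) = _
      rw [one_mul]; rfl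
    rw [this, quotTensorEquivQuotSMul_mk_tmul, Submodule.Quotient.mk_eq_zero, Ideal.smul_top_eq_map, Algebra.smul_def]
    exact h
  have h1 := hinj (h0.trans (map_zero _).symm)
  have h2 := congrArg (quotTensorEquivQuotSMul B J) h1
  rwa [map_zero, quotTensorEquivQuotSMul_mk_tmul, one_smul, Submodule.Quotient.mk_eq_zero, Ideal.smul_top_eq_map] at h2

/-- If `y • x` is a combination of `T • x` in a flat algebra over a complete local domain, then `y ∈ √T`. -/
theorem mem_radical_of_smul_mem [IsNoetherianRing A] [IsLocalRing A] [IsDomain A]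
    [IsAdicComplete (maximalIdeal A) A]
    {L : Type u} [CommRing L] [IsNoetherianRing L] [IsLocalRing L] [Algebra A L] [IsLocalHom (algebraMap A L)]
    [Module.Flat A L] (T : Ideal A) (y : A) (x : L) (hx : x ≠ 0) (a : L)
    (ha : a ∈ T.map (algebraMap A L)) (h : algebraMap A L y * x = a * x) : y ∈ T.radical := by
  rw [Ideal.radical_eq_sInf, Submodule.mem_sInf]
  intro q₀ hq₀
  obtain ⟨q, rfl⟩ : ∃ q : Ideal A, q = q₀ := ⟨q₀, rfl⟩
  obtain ⟨hTq, hq⟩ := hq₀
  by_contra hy
  haveI := hq
  have hpow : ∀ N, algebraMap A L y ^ N * x = a ^ N * x := by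
    intro N
    induction N with
    | zero => simp
    | succ N ih =>
      calc algebraMap A L y ^ (N + 1) * x = algebraMap A L y * (algebraMap A L y ^ N * x) := by ring
        _ = a ^ N * (algebraMap A L y * x) := by rw [ih]; ring
        _ = a ^ (N + 1) * x := by rw [h]; ring
  let Aq := Localization.AtPrime q
  haveI : IsNoetherianRing Aq := IsLocalization.isNoetherianRing q.primeCompl Aq inferInstance
  let K : ℕ → Ideal A := fun N => (maximalIdeal Aq ^ N).comap (algebraMap A Aq)
  have hK : Antitone K := fun a b h => Ideal.comap_mono (Ideal.pow_le_pow_right h)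
  have hK0 : ⨅ N, K N = ⊥ := by
    have hne : maximalIdeal Aq ≠ ⊤ := (maximalIdeal.isMaximal Aq).ne_top
    have e : ⨅ N : ℕ, maximalIdeal Aq ^ N = ⊥ :=
      @Ideal.iInf_pow_eq_bot_of_isLocalRing Aq _ (maximalIdeal Aq) inferInstance inferInstance hne
    show (⨅ N, (maximalIdeal Aq ^ N).comap (algebraMap A Aq)) = ⊥
    rw [← Ideal.comap_iInf]
    exact (congrArg (Ideal.comap _) e).trans
      ((RingHom.injective_iff_ker_eq_bot _).mp (IsLocalization.injective Aq q.primeCompl_le_nonZeroDivisors))
  have hcolon : ∀ N, (T ^ N).colon {y ^ N} ≤ K N := by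
    intro N c hc
    have h1 : c * y ^ N ∈ T ^ N := Submodule.mem_colon_singleton.mp hc
    have h2 : algebraMap A Aq c * algebraMap A Aq (y ^ N) ∈ maximalIdeal Aq ^ N := by
      rw [← map_mul, ← Localization.AtPrime.map_eq_maximalIdeal, ← Ideal.map_pow]
      exact Ideal.mem_map_of_mem _ (Ideal.pow_right_mono hTq N h1)
    have hu : IsUnit (algebraMap A Aq (y ^ N)) :=
      IsLocalization.map_units Aq (⟨y ^ N, fun hm => hy (hq.mem_of_pow_mem N hm)⟩ : q.primeCompl)
    rwa [Ideal.mul_unit_mem_iff_mem _ hu] at h2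
  apply hx
  have hmem : ∀ j, x ∈ maximalIdeal L ^ j := by
    intro j
    obtain ⟨N, hN⟩ := Groth.Agent.Chevalley.exists_le_pow K hK hK0 j
    have h1 : algebraMap A L (y ^ N) * x ∈ (T ^ N).map (algebraMap A L) := by
      rw [map_pow, hpow, Ideal.map_pow]
      exact Ideal.mul_mem_right _ _ (Ideal.pow_mem_pow ha N)
    have h2 := Ideal.map_mono ((hcolon N).trans hN) (mem_map_colon (T ^ N) (y ^ N) x h1)
    rw [Ideal.map_pow] at h2
    exact Ideal.pow_right_mono (((IsLocalRing.local_hom_TFAE (algebraMap A L)).out 0 2).mp ‹_›) j h2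
  have := Ideal.mem_iInf.mpr hmem
  rwa [@Ideal.iInf_pow_eq_bot_of_isLocalRing L _ (maximalIdeal L) inferInstance inferInstance
    (maximalIdeal.isMaximal L).ne_top, Ideal.mem_bot] at this

set_option backward.isDefEq.respectTransparency false in
/-- Cutting by an element outside the minimal primes drops the dimension. -/
theorem dim_quotient_succ_le {D : Type u} [CommRing D] {r : D} (hr : ∀ p ∈ minimalPrimes D, r ∉ p)
    (hr' : Ideal.span {r} ≠ ⊤) : ringKrullDim (D ⧸ Ideal.span {r}) + 1 ≤ ringKrullDim D := by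
  have : Nonempty (PrimeSpectrum.zeroLocus (R := D) (Ideal.span {r})) := by
    rwa [Set.nonempty_coe_sort, Set.nonempty_iff_ne_empty, ne_eq, PrimeSpectrum.zeroLocus_empty_iff_eq_top]
  have := Ideal.Quotient.nontrivial_iff.mpr hr'
  have := (Ideal.Quotient.mk (Ideal.span {r})).domain_nontrivial
  rw [ringKrullDim_quotient, Order.krullDim_eq_iSup_length, ringKrullDim,
    Order.krullDim_eq_iSup_length, ← WithBot.coe_one, ← WithBot.coe_add,
    ENat.iSup_add, WithBot.coe_le_coe, iSup_le_iff]
  intro l
  obtain ⟨p, hp, hp'⟩ := Ideal.exists_minimalPrimes_le (J := l.head.1.asIdeal) bot_le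
  let p' : PrimeSpectrum D := ⟨p, hp.1.1⟩
  have hlt : p' < l.head := lt_of_le_of_ne hp' fun h ↦ hr p hp (by simpa [← h] using l.head.2)
  refine le_trans ?_ (le_iSup _ ((l.map Subtype.val (fun _ _ ↦ id)).cons p' hlt))
  simp

theorem exists_dim_nat (D : Type*) [CommRing D] [IsNoetherianRing D] [IsLocalRing D] :
    ∃ n : ℕ, ringKrullDim D = n := by
  have h1 := ringKrullDim_le_spanFinrank_maximalIdeal D
  have h0 := ringKrullDim_nonneg_of_nontrivial (R := D)
  generalize ringKrullDim D = d at h1 h0
  induction d using WithBot.recBotCoe with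
  | bot => simp at h0
  | coe e =>
    lift e to ℕ using ne_top_of_le_ne_top (ENat.natCast_ne_top _) (WithBot.coe_le_coe.mp h1)
    exact ⟨e, rfl⟩

/-- Parameters of `D` can be taken from `A`. -/
theorem exists_params [IsLocalRing A] : ∀ (n : ℕ) (D : Type u) [CommRing D] [IsNoetherianRing D] [IsLocalRing D]
    (φ : A →+* D), ringKrullDim D ≤ n → (maximalIdeal A).map φ ≤ maximalIdeal D → maximalIdeal D ≤ ((maximalIdeal A).map φ).radical →
    ∃ s : Finset A, (s : Set A) ⊆ maximalIdeal A ∧ s.card ≤ n ∧
      maximalIdeal D ≤ ((Ideal.span (s : Set A)).map φ).radical := by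
  classical
  intro n
  induction n using Nat.strong_induction_on with
  | _ n ih =>
    intro D _ _ _ φ hD hloc hm
    by_cases hmin : ∀ p ∈ minimalPrimes D, p = maximalIdeal D
    · refine ⟨∅, by simp, by simp, ?_⟩
      rw [Finset.coe_empty, Ideal.span_empty, Ideal.map_bot, ← Ideal.sInf_minimalPrimes]
      exact le_sInf fun p hp => (hmin p hp).ge
    have hfin := minimalPrimes.finite_of_isNoetherianRing (R := D)
    set S := {p ∈ minimalPrimes D | p ≠ maximalIdeal D}
    have hS : S.Finite := hfin.subset fun _ h => h.1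
    obtain ⟨t, ht, ht'⟩ : ∃ t ∈ maximalIdeal A, ∀ p ∈ S, φ t ∉ p := by
      by_contra! h
      have hsub : (maximalIdeal A : Set A) ⊆ ⋃ p ∈ (hS.toFinset : Set (Ideal D)), (p.comap φ : Set A) := by
        intro t ht
        obtain ⟨p, hp, hpt⟩ := h t ht
        exact Set.mem_iUnion₂.mpr ⟨p, by simpa using hp, hpt⟩
      obtain ⟨p, hp, hle⟩ := (Ideal.subset_union_prime (f := fun p : Ideal D => p.comap φ) ⊥ ⊥ (fun p hp _ _ => by
        have hp' : p ∈ S := by simpa using hp
        haveI := hp'.1.1.1
        exact Ideal.IsPrime.comap φ)).mp hsub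
      have hp' : p ∈ S := by simpa using hp
      haveI := hp'.1.1.1
      exact hp'.2 ((maximalIdeal.isMaximal D).eq_of_le (Ideal.IsPrime.ne_top')
        (hm.trans ((Ideal.IsPrime.radical_le_iff ‹_›).mpr (Ideal.map_le_iff_le_comap.mpr hle)))).symm
    have hall : ∀ p ∈ minimalPrimes D, φ t ∉ p := by
      intro p hp
      by_cases hpm : p = maximalIdeal D
      · exfalso
        push Not at hmin
        obtain ⟨q, hq, hqm⟩ := hmin
        exact hqm (le_antisymm (le_maximalIdeal hq.1.1.ne_top) (hpm ▸ hp.2 hq.1 (hpm ▸ le_maximalIdeal hq.1.1.ne_top)))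
      · exact ht' p ⟨hp, hpm⟩
    have htm : φ t ∈ maximalIdeal D := hloc (Ideal.mem_map_of_mem φ ht)
    have hne : Ideal.span {φ t} ≠ ⊤ :=
      fun h => (maximalIdeal.isMaximal D).ne_top (top_le_iff.mp (h ▸ (Ideal.span_singleton_le_iff_mem _).mpr htm))
    have := Ideal.Quotient.nontrivial_iff.mpr hne
    let D' := D ⧸ Ideal.span {φ t}
    haveI : IsLocalRing D' := IsLocalRing.of_surjective' (Ideal.Quotient.mk _) Ideal.Quotient.mk_surjective
    have hD' : ringKrullDim D' + 1 ≤ n := (dim_quotient_succ_le hall hne).trans hD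
    obtain ⟨e, he⟩ := exists_dim_nat D'
    rw [he] at hD'
    have hen : e + 1 ≤ n := by exact_mod_cast hD'
    have hmax : (maximalIdeal D).map (Ideal.Quotient.mk (Ideal.span {φ t})) = maximalIdeal D' :=
      IsLocalRing.map_maximalIdeal_of_surjective _ Ideal.Quotient.mk_surjective
    obtain ⟨s, hs, hcard, hrad⟩ := ih e (by lia) D' ((Ideal.Quotient.mk _).comp φ) he.le
      (by
        rw [← hmax, ← Ideal.map_map]
        exact Ideal.map_mono hloc)
      (by
        rw [← hmax, ← Ideal.map_map]
        exact (Ideal.map_mono hm).trans (Ideal.map_radical_le _))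
    refine ⟨insert t s, by simp [Set.insert_subset_iff, hs, ht], (Finset.card_insert_le _ _).trans (by lia), ?_⟩
    intro x hx
    obtain ⟨N, hN⟩ := hrad (hmax ▸ Ideal.mem_map_of_mem _ hx)
    rw [← map_pow, ← Ideal.map_map, ← Ideal.mem_comap, Ideal.comap_map_quotientMk] at hN
    have hle : Ideal.span {φ t} ⊔ (Ideal.span (s : Set A)).map φ ≤
        (Ideal.span ((insert t s : Finset A) : Set A)).map φ := by
      refine sup_le ?_ (Ideal.map_mono (Ideal.span_mono (Finset.coe_subset.mpr (Finset.subset_insert t s))))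
      rw [Ideal.span_singleton_le_iff_mem]
      exact Ideal.mem_map_of_mem φ (Ideal.subset_span (Finset.mem_coe.mpr (Finset.mem_insert_self t s)))
    exact ⟨N, hle hN⟩
    --  Ideal.mem_map_of_mem φ (Ideal.subset_span (Finset.mem_coe.mpr (Finset.mem_insert_self t s)))

theorem lTensor_residueField_injective [IsLocalRing A] {B : Type u} [CommRing B] [Algebra A B] (u : B)
    (hu : ∀ l, u * l ∈ (maximalIdeal A).map (algebraMap A B) → l ∈ (maximalIdeal A).map (algebraMap A B)) :
    Function.Injective (((LinearMap.lsmul B B u).restrictScalars A).lTensor (ResidueField A)) := by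
  show Function.Injective (((LinearMap.lsmul B B u).restrictScalars A).lTensor (A ⧸ maximalIdeal A))
  rw [injective_iff_map_eq_zero]
  intro z hz
  obtain ⟨l, rfl⟩ := TensorProduct.mk_surjective A B (A ⧸ maximalIdeal A) Ideal.Quotient.mk_surjective z
  have h1 := congrArg (quotTensorEquivQuotSMul B (maximalIdeal A)) hz
  rw [TensorProduct.mk_apply, LinearMap.lTensor_tmul, map_zero, show (1 : A ⧸ maximalIdeal A) = Ideal.Quotient.mk _ 1 from rfl,
    quotTensorEquivQuotSMul_mk_tmul, one_smul, Submodule.Quotient.mk_eq_zero, Ideal.smul_top_eq_map] at h1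
  apply (quotTensorEquivQuotSMul B (maximalIdeal A)).injective
  rw [map_zero, TensorProduct.mk_apply, show (1 : A ⧸ maximalIdeal A) = Ideal.Quotient.mk _ 1 from rfl,
    quotTensorEquivQuotSMul_mk_tmul, one_smul, Submodule.Quotient.mk_eq_zero, Ideal.smul_top_eq_map]
  exact hu l h1

section Local

variable [IsNoetherianRing A] [IsLocalRing A]
  {L : Type u} [CommRing L] [IsNoetherianRing L] [IsLocalRing L] [Algebra A L] [IsLocalHom (algebraMap A L)]

/-- The dimension of a quotient with closed fibre primary is at most `dim A`. -/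
theorem dim_le (D : Type u) [CommRing D] [IsNoetherianRing D] [IsLocalRing D] (φ : A →+* D) [IsLocalHom φ]
    (hm : maximalIdeal D ≤ ((maximalIdeal A).map φ).radical) : ringKrullDim D ≤ ringKrullDim A := by
  classical
  obtain ⟨s, hs, hcard⟩ := (maximalIdeal A).exists_finset_card_eq_height_of_isNoetherianRing
  have hrad : maximalIdeal A ≤ (Ideal.span (s : Set A)).radical := by
    rw [Ideal.radical_eq_sInf]
    exact le_sInf fun p hp => by
      haveI := hp.2
      exact hs.2 ⟨hp.2, hp.1⟩ (le_maximalIdeal hp.2.ne_top)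
  have hmin : maximalIdeal D ∈ (Ideal.span (φ '' (s : Set A))).minimalPrimes := by
    refine ⟨⟨inferInstance, ?_⟩, fun p hp _ => ?_⟩
    · rw [← Ideal.map_span]
      exact (Ideal.map_mono hs.1.2).trans (((IsLocalRing.local_hom_TFAE φ).out 0 2).mp ‹_›)
    · rw [← Ideal.map_span] at hp
      refine hm.trans ((Ideal.IsPrime.radical_le_iff hp.1).mpr ?_)
      refine (Ideal.map_mono hrad).trans ((Ideal.map_radical_le _).trans ?_)
      exact (Ideal.IsPrime.radical_le_iff hp.1).mpr hp.2
  have hh := Ideal.height_le_card_of_mem_minimalPrimes_span (s.finite_toSet.image φ) hmin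
  rw [← maximalIdeal_height_eq_ringKrullDim, ← maximalIdeal_height_eq_ringKrullDim, ← hcard]
  refine WithBot.coe_le_coe.mpr (hh.trans ?_)
  rw [← Finset.coe_image, Set.ncard_coe_finset]
  exact_mod_cast Finset.card_image_le

variable [IsDomain A] [IsAdicComplete (maximalIdeal A) A] [Module.Flat A L]

/-- An associated prime `Q` with `Q + mL` primary has `dim A ≤ dim L/Q`. -/
theorem le_dim (Q : Ideal L) (hQ : Q ∈ associatedPrimes L L)
    (hm : maximalIdeal L ≤ (Q ⊔ (maximalIdeal A).map (algebraMap A L)).radical) :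
    ringKrullDim A ≤ ringKrullDim (L ⧸ Q) := by
  classical
  obtain ⟨hQp, x, hxQ⟩ := isAssociatedPrime_iff.mp hQ
  haveI := hQp
  have hx : x ≠ 0 := fun h => hQp.ne_top (by rw [hxQ, h]; simp)
  haveI : Nontrivial (L ⧸ Q) := Ideal.Quotient.nontrivial_iff.mpr hQp.ne_top
  haveI : IsLocalRing (L ⧸ Q) := IsLocalRing.of_surjective' (Ideal.Quotient.mk Q) Ideal.Quotient.mk_surjective
  have hmax : (maximalIdeal L).map (Ideal.Quotient.mk Q) = maximalIdeal (L ⧸ Q) :=
    IsLocalRing.map_maximalIdeal_of_surjective _ Ideal.Quotient.mk_surjective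
  obtain ⟨n, hn⟩ := exists_dim_nat (L ⧸ Q)
  let φ := (Ideal.Quotient.mk Q).comp (algebraMap A L)
  obtain ⟨s, hs, hcard, hrad⟩ := exists_params n (L ⧸ Q) φ hn.le (by
    rw [← hmax, ← Ideal.map_map]
    exact Ideal.map_mono (((IsLocalRing.local_hom_TFAE (algebraMap A L)).out 0 2).mp ‹_›)) (by
    rw [← hmax]
    refine (Ideal.map_mono hm).trans ((Ideal.map_radical_le _).trans (Ideal.radical_mono ?_))
    rw [Ideal.map_sup, Ideal.map_quotient_self, bot_sup_eq, Ideal.map_map])
  have hrad' : maximalIdeal A ≤ (Ideal.span (s : Set A)).radical := by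
    intro y hy
    have hy' : φ y ∈ maximalIdeal (L ⧸ Q) :=
      hmax ▸ Ideal.mem_map_of_mem _ ((map_mem_nonunits_iff (algebraMap A L) y).mpr hy)
    obtain ⟨N, hN⟩ := hrad hy'
    rw [← map_pow, ← Ideal.map_map] at hN
    have hN' : algebraMap A L (y ^ N) ∈ Q ⊔ (Ideal.span (s : Set A)).map (algebraMap A L) := by
      rw [← Ideal.comap_map_quotientMk]; exact hN
    obtain ⟨q, hq, a, ha, hqa⟩ := Submodule.mem_sup.mp hN'
    have hqx : q * x = 0 := by
      have : q ∈ (⊥ : Submodule L L).colon {x} := hxQ ▸ hq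
      simpa [Submodule.mem_colon_singleton] using this
    have := mem_radical_of_smul_mem (L := L) (Ideal.span (s : Set A)) (y ^ N) x hx a ha
      (by rw [← hqa, add_mul, hqx, zero_add])
    exact Ideal.radical_idem (Ideal.span (s : Set A)) ▸ (⟨N, this⟩ : y ∈ (Ideal.span (s : Set A)).radical.radical)
  have hmin : maximalIdeal A ∈ (Ideal.span (s : Set A)).minimalPrimes :=
    ⟨⟨inferInstance, Ideal.span_le.mpr hs⟩, fun p hp _ => hrad'.trans ((Ideal.IsPrime.radical_le_iff hp.1).mpr hp.2)⟩
  rw [hn, ← maximalIdeal_height_eq_ringKrullDim]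
  exact WithBot.coe_le_coe.mpr ((Ideal.height_le_card_of_mem_minimalPrimes_span_finset hmin).trans (by exact_mod_cast hcard))

/-- The closed point is associated in the closed fibre; if it is moreover minimal there then `Q` is minimal. -/
theorem closed_point (Q : Ideal L) (hQ : Q ∈ associatedPrimes L L)
    (hm : maximalIdeal L ≤ (Q ⊔ (maximalIdeal A).map (algebraMap A L)).radical) :
    maximalIdeal L ∈ associatedPrimes L (L ⧸ (maximalIdeal A).map (algebraMap A L)) ∧
      (maximalIdeal L ≤ ((maximalIdeal A).map (algebraMap A L)).radical → Q ∈ minimalPrimes L) := by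
  haveI hQp : Q.IsPrime := hQ.1
  haveI : Nontrivial (L ⧸ Q) := Ideal.Quotient.nontrivial_iff.mpr hQp.ne_top
  haveI : IsLocalRing (L ⧸ Q) := IsLocalRing.of_surjective' (Ideal.Quotient.mk Q) Ideal.Quotient.mk_surjective
  haveI := IsLocalHom.of_surjective (Ideal.Quotient.mk Q) Ideal.Quotient.mk_surjective
  have hmax : (maximalIdeal L).map (Ideal.Quotient.mk Q) = maximalIdeal (L ⧸ Q) :=
    IsLocalRing.map_maximalIdeal_of_surjective _ Ideal.Quotient.mk_surjective
  have hupper : ringKrullDim (L ⧸ Q) ≤ ringKrullDim A := by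
    refine dim_le (L ⧸ Q) ((Ideal.Quotient.mk Q).comp (algebraMap A L)) ?_
    rw [← hmax]
    refine (Ideal.map_mono hm).trans ((Ideal.map_radical_le _).trans (Ideal.radical_mono ?_))
    rw [Ideal.map_sup, Ideal.map_quotient_self, bot_sup_eq, Ideal.map_map]
  have hnd : ∀ (Q' : Ideal L) (r : L), Q ≤ Q' → r ∈ Q' → r ∉ Q → Q' ≠ ⊤ →
      ringKrullDim (L ⧸ Q') + 1 ≤ ringKrullDim (L ⧸ Q) := fun Q' r hle hr hr' _ =>
    ringKrullDim_succ_le_of_surjective (Ideal.Quotient.factor hle) (Ideal.Quotient.factor_surjective hle)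
      (r := Ideal.Quotient.mk Q r) (mem_nonZeroDivisors_of_ne_zero (by rwa [ne_eq, Ideal.Quotient.eq_zero_iff_mem]))
      (by simpa [Ideal.Quotient.eq_zero_iff_mem] using hr)
  obtain ⟨d, hd⟩ := exists_dim_nat A
  refine ⟨?_, fun hprim => ?_⟩
  · by_contra hass
    set I := (maximalIdeal A).map (algebraMap A L)
    have hI : I ≤ maximalIdeal L := ((IsLocalRing.local_hom_TFAE (algebraMap A L)).out 0 2).mp ‹_›
    obtain ⟨u, hu, hureg⟩ : ∃ u ∈ maximalIdeal L, IsSMulRegular (L ⧸ I) u := by
      by_contra! h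
      have hsub : (maximalIdeal L : Set L) ⊆ ⋃ p ∈ associatedPrimes L (L ⧸ I), (p : Set L) := by
        rw [biUnion_associatedPrimes_eq_compl_regular]
        exact fun u hu => h u hu
      have hfin := associatedPrimes.finite L (L ⧸ I)
      obtain ⟨p, hp, hle⟩ := (Ideal.subset_union_prime (f := fun p => p) (s := hfin.toFinset) ⊥ ⊥
        (fun p hp _ _ => (hfin.mem_toFinset.mp hp).1)).mp (by simpa using hsub)
      have hp' := hfin.mem_toFinset.mp hp
      exact hass (((maximalIdeal.isMaximal L).eq_of_le hp'.1.ne_top hle) ▸ hp')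
    let μ : L →ₗ[A] L := (LinearMap.lsmul L L u).restrictScalars A
    have hμ : Function.Injective (μ.lTensor (ResidueField A)) :=
      lTensor_residueField_injective u (fun l hl => by
        have h0 : u • Ideal.Quotient.mk I l = u • (0 : L ⧸ I) := by
          rw [smul_zero]
          show Ideal.Quotient.mk I (u • l) = 0
          exact Ideal.Quotient.eq_zero_iff_mem.mpr hl
        exact Ideal.Quotient.eq_zero_iff_mem.mp (hureg h0))
    obtain ⟨hinj, hflat⟩ := Groth.Agent.LocFlat.injective_and_flat_coker (S := L) μ hμ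
    obtain ⟨x, hxQ⟩ := (isAssociatedPrime_iff.mp hQ).2
    let T := Ideal.span {u}
    have hTne : T ≠ ⊤ := fun h => (maximalIdeal.isMaximal L).ne_top
      (top_le_iff.mp (h ▸ (Ideal.span_singleton_le_iff_mem _).mpr hu))
    -- divide `x` by the largest power of `u`
    have hx : x ≠ 0 := fun h => hQp.ne_top (by rw [hxQ, h]; simp)
    have huQ : u ∉ Q := fun h => hx (hinj (show μ x = μ 0 by
      rw [map_zero]
      have : u ∈ (⊥ : Submodule L L).colon {x} := hxQ ▸ h
      simpa [μ, Submodule.mem_colon_singleton] using this))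
    obtain ⟨x', hx'T, hx'Q⟩ : ∃ x', x' ∉ T ∧ ∀ q ∈ Q, q * x' = 0 := by
      by_contra! h
      have hdiv : ∀ (N : ℕ) (z : L), (∀ q ∈ Q, q * z = 0) → z ∈ maximalIdeal L ^ N := by
        intro N
        induction N with
        | zero => simp
        | succ N ih =>
          intro z hz
          obtain ⟨c, rfl⟩ : ∃ c, c * u = z := by
            by_contra! h'
            obtain ⟨q, hq, hne⟩ := h z (fun hm => by
              obtain ⟨c, hc⟩ := Ideal.mem_span_singleton'.mp hm
              exact h' c hc)
            exact hne (hz q hq)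
          rw [pow_succ]
          refine Ideal.mul_mem_mul (ih c fun q hq => hinj ?_) hu
          show u * (q * c) = μ 0
          rw [map_zero, ← hz q hq]; ring
      apply hx
      have := Ideal.mem_iInf.mpr fun N => hdiv N x fun q hq => by
        have : q ∈ (⊥ : Submodule L L).colon {x} := hxQ ▸ hq
        simpa [Submodule.mem_colon_singleton] using this
      rwa [@Ideal.iInf_pow_eq_bot_of_isLocalRing L _ (maximalIdeal L) inferInstance inferInstance
        (maximalIdeal.isMaximal L).ne_top, Ideal.mem_bot] at this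
    let L' := L ⧸ T
    haveI : Nontrivial L' := Ideal.Quotient.nontrivial_iff.mpr hTne
    haveI : IsLocalRing L' := IsLocalRing.of_surjective' (Ideal.Quotient.mk T) Ideal.Quotient.mk_surjective
    haveI := IsLocalHom.of_surjective (Ideal.Quotient.mk T) Ideal.Quotient.mk_surjective
    haveI : IsLocalHom (algebraMap A L') := by
      rw [IsScalarTower.algebraMap_eq A L L']
      exact RingHom.isLocalHom_comp _ _
    haveI : Module.Flat A L' := by
      have e : LinearMap.range μ = T.restrictScalars A := by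
        ext z
        simp [μ, T, Ideal.mem_span_singleton', mul_comm u]
      exact Module.Flat.of_linearEquiv
        ((Submodule.quotEquivOfEq _ _ e.symm).symm.trans (Submodule.Quotient.restrictScalarsEquiv A T)).symm
    have hx'0 : Ideal.Quotient.mk T x' ≠ 0 := by rwa [ne_eq, Ideal.Quotient.eq_zero_iff_mem]
    obtain ⟨P', hP', hle⟩ := exists_le_isAssociatedPrime_of_isNoetherianRing L' (Ideal.Quotient.mk T x') hx'0
    haveI := hP'.1
    let Q' := P'.comap (Ideal.Quotient.mk T)
    have hQQ' : Q ≤ Q' := fun q hq => hle (by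
      rw [Submodule.mem_colon_singleton, Submodule.mem_bot, smul_eq_mul, ← map_mul, hx'Q q hq, map_zero])
    have huQ' : u ∈ Q' := by
      show Ideal.Quotient.mk T u ∈ P'
      rw [Ideal.Quotient.eq_zero_iff_mem.mpr (Ideal.mem_span_singleton_self u)]
      exact P'.zero_mem
    have hlow := le_dim (A := A) (L := L') P' hP' (by
      rw [← IsLocalRing.map_maximalIdeal_of_surjective (Ideal.Quotient.mk T) Ideal.Quotient.mk_surjective]
      refine (Ideal.map_mono hm).trans ((Ideal.map_radical_le _).trans (Ideal.radical_mono ?_))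
      rw [Ideal.map_sup, Ideal.map_map, ← Ideal.Quotient.algebraMap_eq, ← IsScalarTower.algebraMap_eq]
      exact sup_le_sup_right (Ideal.map_le_iff_le_comap.mpr hQQ') _)
    have h1 := hnd Q' u hQQ' huQ' huQ (Ideal.IsPrime.ne_top inferInstance)
    have e : ringKrullDim (L' ⧸ P') ≤ ringKrullDim (L ⧸ Q') :=
      ringKrullDim_le_of_surjective (Ideal.Quotient.lift Q' ((Ideal.Quotient.mk P').comp (Ideal.Quotient.mk T))
          fun a ha => Ideal.Quotient.eq_zero_iff_mem.mpr ha)
        (Ideal.Quotient.lift_surjective_of_surjective _ _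
          (Ideal.Quotient.mk_surjective.comp Ideal.Quotient.mk_surjective))
    have h2 : (d : WithBot ℕ∞) + 1 ≤ d := by
      rw [← hd]
      exact ((add_le_add_left (hlow.trans e) 1).trans h1).trans hupper
    exact absurd h2 (by exact_mod_cast Nat.not_succ_le_self d)
  · obtain ⟨Q₀, hQ₀, hle⟩ := Ideal.exists_minimalPrimes_le (J := Q) bot_le
    haveI := hQ₀.1.1
    by_contra hne
    obtain ⟨r, hr, hr'⟩ : ∃ r ∈ Q, r ∉ Q₀ := by
      by_contra! h
      exact hne ((le_antisymm hle h) ▸ hQ₀)
    haveI : Nontrivial (L ⧸ Q₀) := Ideal.Quotient.nontrivial_iff.mpr hQ₀.1.1.ne_top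
    haveI : IsLocalRing (L ⧸ Q₀) := IsLocalRing.of_surjective' (Ideal.Quotient.mk Q₀) Ideal.Quotient.mk_surjective
    haveI := IsLocalHom.of_surjective (Ideal.Quotient.mk Q₀) Ideal.Quotient.mk_surjective
    have h0 : ringKrullDim (L ⧸ Q₀) ≤ ringKrullDim A := by
      refine dim_le (L ⧸ Q₀) ((Ideal.Quotient.mk Q₀).comp (algebraMap A L)) ?_
      rw [← IsLocalRing.map_maximalIdeal_of_surjective (Ideal.Quotient.mk Q₀) Ideal.Quotient.mk_surjective]
      refine (Ideal.map_mono hprim).trans ((Ideal.map_radical_le _).trans (Ideal.radical_mono ?_))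
      rw [Ideal.map_map]
    have h1 : ringKrullDim (L ⧸ Q) + 1 ≤ ringKrullDim (L ⧸ Q₀) :=
      ringKrullDim_succ_le_of_surjective (Ideal.Quotient.factor hle) (Ideal.Quotient.factor_surjective hle)
        (r := Ideal.Quotient.mk Q₀ r)
        (mem_nonZeroDivisors_of_ne_zero (by rwa [ne_eq, Ideal.Quotient.eq_zero_iff_mem]))
        (by simpa [Ideal.Quotient.eq_zero_iff_mem] using hr)
    have h2 : (d : WithBot ℕ∞) + 1 ≤ d := by
      rw [← hd]
      exact ((add_le_add_left (le_dim Q hQ hm) 1).trans h1).trans h0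
    exact absurd h2 (by exact_mod_cast Nat.not_succ_le_self d)

end Local

/-- The global form: `P` minimal over `Q + mB` is associated in the closed fibre, and `Q` is minimal
if `P` is minimal in the closed fibre. -/
theorem global_form [IsNoetherianRing A] [IsLocalRing A] [IsDomain A] [IsAdicComplete (maximalIdeal A) A]
    {B : Type u} [CommRing B] [IsNoetherianRing B] [Algebra A B] [Module.Flat A B]
    (Q : Ideal B) (hQ : Q ∈ associatedPrimes B B) (P : Ideal B)
    (hP : P ∈ (Q ⊔ (maximalIdeal A).map (algebraMap A B)).minimalPrimes) :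
    P ∈ associatedPrimes B (B ⧸ (maximalIdeal A).map (algebraMap A B)) ∧
      (P ∈ ((maximalIdeal A).map (algebraMap A B)).minimalPrimes → Q ∈ minimalPrimes B) := by
  classical
  haveI : P.IsPrime := hP.1.1
  haveI hQp : Q.IsPrime := hQ.1
  set I := (maximalIdeal A).map (algebraMap A B) with hI
  have hQP : Q ≤ P := le_sup_left.trans hP.1.2
  have hIP : I ≤ P := le_sup_right.trans hP.1.2
  let L := Localization.AtPrime P
  haveI : IsNoetherianRing L := IsLocalization.isNoetherianRing P.primeCompl L inferInstance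
  haveI : Module.Flat A L :=
    haveI : Module.Flat B L := IsLocalization.flat _ P.primeCompl
    Module.Flat.trans A B L
  haveI : IsLocalHom (algebraMap A L) := by
    refine ((IsLocalRing.local_hom_TFAE (algebraMap A L)).out 0 2).mpr ?_
    rw [IsScalarTower.algebraMap_eq A B L, ← Ideal.map_map, ← Localization.AtPrime.map_eq_maximalIdeal]
    exact Ideal.map_mono hIP
  have hIL : (maximalIdeal A).map (algebraMap A L) = I.map (algebraMap B L) := by
    rw [IsScalarTower.algebraMap_eq A B L, ← Ideal.map_map]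
  let QL := Q.map (algebraMap B L)
  have hdisj : Disjoint (P.primeCompl : Set B) Q := Set.disjoint_left.mpr fun a ha hb => ha (hQP hb)
  have hc : QL.comap (algebraMap B L) = Q := IsLocalization.under_map_of_isPrime_disjoint P.primeCompl L hQp hdisj
  have hQL : QL ∈ associatedPrimes L L :=
    Module.associatedPrimes.mem_associatedPrimes_of_comap_mem_associatedPrimes_of_isLocalizedModule
      P.primeCompl (Algebra.linearMap B L) QL (by rw [hc]; exact hQ)
  haveI := hQL.1
  -- primes over `P` in `L`
  have hprim : ∀ J : Ideal B, P ∈ J.minimalPrimes → maximalIdeal L ≤ (J.map (algebraMap B L)).radical := by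
    intro J hJ
    rw [Ideal.radical_eq_sInf]
    refine le_sInf fun p hp => ?_
    haveI := hp.2
    have h1 : P ≤ p.comap (algebraMap B L) := hJ.2 ⟨inferInstance, Ideal.map_le_iff_le_comap.mp hp.1⟩ (by
      exact (Ideal.comap_mono (le_maximalIdeal hp.2.ne_top)).trans Localization.AtPrime.under_maximalIdeal.le)
    rw [← Localization.AtPrime.map_eq_maximalIdeal]
    exact Ideal.map_le_iff_le_comap.mpr h1
  have hm : maximalIdeal L ≤ (QL ⊔ (maximalIdeal A).map (algebraMap A L)).radical := by
    rw [hIL, ← Ideal.map_sup]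
    exact hprim _ hP
  obtain ⟨h1, h2⟩ := closed_point QL hQL hm
  refine ⟨?_, fun hmin => ?_⟩
  · obtain ⟨-, z, hz⟩ := isAssociatedPrime_iff.mp h1
    obtain ⟨l, rfl⟩ := Ideal.Quotient.mk_surjective z
    obtain ⟨b, s, rfl⟩ := IsLocalization.exists_mk'_eq P.primeCompl l
    rw [hIL] at hz
    have key : ∀ r : B, r ∈ P → ∃ w ∈ P.primeCompl, w * (r * b) ∈ I := by
      intro r hr
      have hr' : algebraMap B L r ∈ maximalIdeal L := by
        rw [← Localization.AtPrime.map_eq_maximalIdeal]; exact Ideal.mem_map_of_mem _ hr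
      rw [hz, Submodule.mem_colon_singleton, Submodule.mem_bot] at hr'
      have h3 : IsLocalization.mk' L (r * b) s ∈ I.map (algebraMap B L) := by
        rw [← IsLocalization.mul_mk'_eq_mk'_of_mul]
        exact Ideal.Quotient.eq_zero_iff_mem.mp hr'
      exact (IsLocalization.mk'_mem_map_algebraMap_iff P.primeCompl L I _ _).mp h3
    obtain ⟨G, hG⟩ := IsNoetherian.noetherian P
    choose! w hw hwI using key
    let W := ∏ g ∈ G, w g
    have hW : W ∈ P.primeCompl := prod_mem fun g hg => hw g (hG ▸ Ideal.subset_span hg)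
    refine isAssociatedPrime_iff.mpr ⟨inferInstance, Ideal.Quotient.mk I (W * b), le_antisymm ?_ fun c hc => ?_⟩
    · rw [← hG, Ideal.submodule_span_eq, Ideal.span_le]
      intro g hg
      rw [SetLike.mem_coe, Submodule.mem_colon_singleton, Submodule.mem_bot]
      show Ideal.Quotient.mk I (g * (W * b)) = 0
      rw [Ideal.Quotient.eq_zero_iff_mem]
      obtain ⟨v, hv⟩ : w g ∣ W := Finset.dvd_prod_of_mem w hg
      rw [hv, show g * (w g * v * b) = v * (w g * (g * b)) by ring]
      exact I.mul_mem_left v (hwI g (hG ▸ Ideal.subset_span hg))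
    · rw [Submodule.mem_colon_singleton, Submodule.mem_bot] at hc
      have hc' : c * (W * b) ∈ I := Ideal.Quotient.eq_zero_iff_mem.mp hc
      by_contra hcP
      have hu : IsUnit (algebraMap B L (c * W)) :=
        IsLocalization.map_units L (⟨c * W, mul_mem (show c ∈ P.primeCompl from hcP) hW⟩ : P.primeCompl)
      have h4 : IsLocalization.mk' L b s ∈ I.map (algebraMap B L) := by
        rw [← Ideal.unit_mul_mem_iff_mem _ hu, IsLocalization.mul_mk'_eq_mk'_of_mul,
          IsLocalization.mk'_mem_map_algebraMap_iff]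
        exact ⟨1, one_mem _, by rw [one_mul, mul_assoc]; exact hc'⟩
      have h5 : (1 : L) ∈ maximalIdeal L := by
        rw [hz, Submodule.mem_colon_singleton, one_smul, Submodule.mem_bot]
        exact Ideal.Quotient.eq_zero_iff_mem.mpr h4
      exact (maximalIdeal.isMaximal L).ne_top ((Ideal.eq_top_iff_one _).mpr h5)
  · have h3 := h2 (hIL ▸ hprim I hmin)
    refine ⟨⟨hQp, bot_le⟩, fun q hq hqQ => ?_⟩
    haveI := hq.1
    have hd : Disjoint (P.primeCompl : Set B) q := Set.disjoint_left.mpr fun a ha hb => ha (hQP (hqQ hb))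
    have h4 : QL ≤ q.map (algebraMap B L) :=
      h3.2 ⟨IsLocalization.isPrime_of_isPrime_disjoint P.primeCompl L q hq.1 hd, bot_le⟩ (Ideal.map_mono hqQ)
    have h5 := Ideal.comap_mono (f := algebraMap B L) h4
    rwa [hc, show (q.map (algebraMap B L)).comap (algebraMap B L) = q from
      IsLocalization.under_map_of_isPrime_disjoint P.primeCompl L hq.1 hd] at h5

end Groth.Agent.FlatFibres
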